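import Mathlib

/-!
For a flat `R`-algebra `S` with `R/I ≅ S/IS`, tensoring with `S` is an equivalence on `I`-power
torsion modules, and (for `I` finitely generated) `I`-power torsion of `S ⊗ M` comes from `M`.
-/

set_option autoImplicit false
universe u

open TensorProduct

namespace Groth.Agent.TorsionEquivLib

variable {R S : Type u} [CommRing R] [CommRing S] [Algebra R S] {I : Ideal R}

/-- Every element of `S` is congruent to one of `R` modulo `IS`. -/
lemma exists_sub_mem (hq : Function.Bijective
    (Ideal.quotientMap (I.map (algebraMap R S)) (algebraMap R S) Ideal.le_comap_map)) (s : S) :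
    ∃ r : R, s - algebraMap R S r ∈ I.map (algebraMap R S) := by
  obtain ⟨c, hc⟩ := hq.2 (Ideal.Quotient.mk _ s)
  obtain ⟨r, rfl⟩ := Ideal.Quotient.mk_surjective c
  rw [Ideal.quotientMap_mk, Ideal.Quotient.eq] at hc
  exact ⟨r, by rw [← neg_sub]; exact neg_mem hc⟩

lemma map_smul_eq_zero {N : Type u} [AddCommGroup N] [Module R N] [Module S N] [IsScalarTower R S N]
    {J : Ideal R} {z : N} (hz : ∀ a ∈ J, a • z = 0) {s : S} (hs : s ∈ J.map (algebraMap R S)) :
    s • z = 0 := by
  induction hs using Submodule.span_induction with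
  | mem x hx =>
    obtain ⟨a, ha, rfl⟩ := hx
    rw [algebraMap_smul]; exact hz a ha
  | zero => exact zero_smul _ _
  | add x y _ _ hx hy => rw [add_smul, hx, hy, add_zero]
  | smul c x _ hx => rw [smul_eq_mul, mul_smul, hx, smul_zero]

/-- Tensoring does nothing to a module killed by `I`. -/
lemma bijective_mk_of_killed (hq : Function.Bijective
    (Ideal.quotientMap (I.map (algebraMap R S)) (algebraMap R S) Ideal.le_comap_map))
    (M : Type u) [AddCommGroup M] [Module R M] (hM : ∀ a ∈ I, ∀ m : M, a • m = 0) :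
    Function.Bijective (TensorProduct.mk R S M 1) := by
  choose c hc using exists_sub_mem hq
  have huniq : ∀ (s : S) (r : R), s - algebraMap R S r ∈ I.map (algebraMap R S) →
      ∀ m : M, c s • m = r • m := by
    intro s r hr m
    have h1 : Ideal.quotientMap (I.map (algebraMap R S)) (algebraMap R S) Ideal.le_comap_map
        (Ideal.Quotient.mk I (c s - r)) = 0 := by
      rw [Ideal.quotientMap_mk, Ideal.Quotient.eq_zero_iff_mem, map_sub]
      convert sub_mem hr (hc s) using 1
      ring
    have h2 := hq.1 (h1.trans (map_zero _).symm)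
    rw [Ideal.Quotient.eq_zero_iff_mem] at h2
    rw [← sub_eq_zero, ← sub_smul]
    exact hM _ h2 m
  let β : S →ₗ[R] M →ₗ[R] M :=
    { toFun := fun s => c s • LinearMap.id
      map_add' := fun s s' => LinearMap.ext fun m => by
        have := huniq (s + s') (c s + c s') (by
          convert add_mem (hc s) (hc s') using 1
          rw [map_add]; ring) m
        simp only [LinearMap.smul_apply, LinearMap.id_apply, LinearMap.add_apply, this, add_smul]
      map_smul' := fun r s => LinearMap.ext fun m => by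
        have := huniq (r • s) (r * c s) (by
          convert Ideal.mul_mem_left _ (algebraMap R S r) (hc s) using 1
          rw [map_mul, Algebra.smul_def]; ring) m
        simp only [LinearMap.smul_apply, LinearMap.id_apply, RingHom.id_apply, this, mul_smul] }
  have hleft : ∀ m : M, TensorProduct.lift β ((1 : S) ⊗ₜ[R] m) = m := fun m => by
    rw [TensorProduct.lift.tmul]
    exact (huniq 1 1 (by simp) m).trans (one_smul R m)
  refine ⟨fun x y h => ?_, fun t => ⟨TensorProduct.lift β t, ?_⟩⟩
  · have := congrArg (TensorProduct.lift β) h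
    rwa [TensorProduct.mk_apply, TensorProduct.mk_apply, hleft, hleft] at this
  · induction t using TensorProduct.induction_on with
    | zero => simp
    | add x y hx hy => rw [map_add, map_add, hx, hy]
    | tmul s m =>
      have h0 : (s - algebraMap R S (c s)) • ((1 : S) ⊗ₜ[R] m) = 0 :=
        map_smul_eq_zero (N := S ⊗[R] M) (z := (1 : S) ⊗ₜ[R] m) (fun a ha => by rw [← TensorProduct.tmul_smul, hM a ha, TensorProduct.tmul_zero])
          (hc s)
      rw [TensorProduct.smul_tmul', smul_eq_mul, mul_one, TensorProduct.sub_tmul, sub_eq_zero,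
        Algebra.algebraMap_eq_smul_one, TensorProduct.smul_tmul] at h0
      rw [TensorProduct.lift.tmul, h0]
      rfl

variable [Module.Flat R S]

lemma bijective_mk_of_pow_killed (hq : Function.Bijective
    (Ideal.quotientMap (I.map (algebraMap R S)) (algebraMap R S) Ideal.le_comap_map)) :
    ∀ (n : ℕ) (M : Type u) [AddCommGroup M] [Module R M], (∀ a ∈ I ^ n, ∀ m : M, a • m = 0) →
      Function.Bijective (TensorProduct.mk R S M 1) := by
  intro n
  induction n with
  | zero =>
    intro M _ _ hM
    refine bijective_mk_of_killed hq M fun a _ m => ?_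
    exact hM a (by simp) m
  | succ n ih =>
    intro M _ _ hM
    let N : Submodule R M := I • ⊤
    have hN : ∀ a ∈ I ^ n, ∀ m : N, a • m = 0 := by
      rintro a ha ⟨m, hm⟩
      refine Subtype.ext ?_
      change a • m = 0
      refine Submodule.smul_induction_on (p := fun m => a • m = 0) hm (fun b hb x _ => ?_)
        (fun x y hx hy => by rw [smul_add, hx, hy, add_zero])
      rw [← mul_smul]
      exact hM _ (by rw [pow_succ]; exact Ideal.mul_mem_mul ha hb) x
    have hQ : ∀ a ∈ I, ∀ q : M ⧸ N, a • q = 0 := by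
      intro a ha q
      obtain ⟨q, rfl⟩ := Submodule.mkQ_surjective _ q
      rw [← map_smul]
      exact (Submodule.Quotient.mk_eq_zero _).2 (Submodule.smul_mem_smul ha trivial)
    have hbN := ih N hN
    have hbQ := bijective_mk_of_killed hq (M ⧸ N) hQ
    have hinj : Function.Injective (N.subtype.lTensor S) :=
      Module.Flat.lTensor_preserves_injective_linearMap _ Subtype.val_injective
    have hex := lTensor_exact S (LinearMap.exact_subtype_mkQ N) (Submodule.mkQ_surjective N)
    refine ⟨?_, fun t => ?_⟩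
    · rw [injective_iff_map_eq_zero]
      intro m hm
      have h1 : m ∈ N := (Submodule.Quotient.mk_eq_zero N).1 (hbQ.1 (by
        have := congrArg (N.mkQ.lTensor S) hm
        simpa using this))
      have h2 : (TensorProduct.mk R S N 1) ⟨m, h1⟩ = 0 :=
        hinj (by simpa using hm)
      exact congrArg Subtype.val (hbN.1 (h2.trans (map_zero _).symm))
    · obtain ⟨q, hq'⟩ := hbQ.2 (N.mkQ.lTensor S t)
      obtain ⟨m, rfl⟩ := Submodule.mkQ_surjective _ q
      obtain ⟨w, hw⟩ := (hex (t - (1 : S) ⊗ₜ[R] m)).1 (by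
        rw [map_sub, ← hq', LinearMap.lTensor_tmul, TensorProduct.mk_apply, sub_self])
      obtain ⟨k, rfl⟩ := hbN.2 w
      refine ⟨m + k, ?_⟩
      rw [map_add]
      simp only [TensorProduct.mk_apply, LinearMap.lTensor_tmul, Submodule.subtype_apply] at hw ⊢
      rw [hw]; abel

/-- Tensoring does nothing to an `I`-power torsion module. -/
theorem bijective_mk_of_torsion (hq : Function.Bijective
    (Ideal.quotientMap (I.map (algebraMap R S)) (algebraMap R S) Ideal.le_comap_map))
    (M : Type u) [AddCommGroup M] [Module R M] (hM : ∀ m : M, ∃ n : ℕ, ∀ a ∈ I ^ n, a • m = 0) :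
    Function.Bijective (TensorProduct.mk R S M 1) := by
  have key : ∀ m : M, Function.Bijective (TensorProduct.mk R S (Submodule.span R {m}) 1) := by
    intro m
    obtain ⟨n, hn⟩ := hM m
    refine bijective_mk_of_pow_killed hq n _ fun a ha x => ?_
    obtain ⟨r, hr⟩ := Submodule.mem_span_singleton.1 x.2
    refine Subtype.ext ?_
    rw [Submodule.coe_smul, ← hr, smul_comm, hn a ha, smul_zero]
    rfl
  refine ⟨?_, fun t => ?_⟩
  · rw [injective_iff_map_eq_zero]
    intro m hm
    have hinj : Function.Injective ((Submodule.span R {m}).subtype.lTensor S) :=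
      Module.Flat.lTensor_preserves_injective_linearMap _ Subtype.val_injective
    have h2 : TensorProduct.mk R S (Submodule.span R {m}) 1 ⟨m, Submodule.mem_span_singleton_self m⟩ = 0 :=
      hinj (by simpa using hm)
    exact congrArg Subtype.val ((key m).1 (h2.trans (map_zero _).symm))
  · induction t using TensorProduct.induction_on with
    | zero => exact ⟨0, map_zero _⟩
    | add x y hx hy =>
      obtain ⟨a, rfl⟩ := hx
      obtain ⟨b, rfl⟩ := hy
      exact ⟨a + b, map_add _ _ _⟩
    | tmul s m =>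
      obtain ⟨x, hx⟩ := (key m).2 (s ⊗ₜ ⟨m, Submodule.mem_span_singleton_self m⟩)
      exact ⟨x, by simpa using congrArg ((Submodule.span R {m}).subtype.lTensor S) hx⟩

/-- `I`-power torsion of `S ⊗ M` comes from `M`. -/
theorem exists_of_torsion (hI : I.FG) (hq : Function.Bijective
    (Ideal.quotientMap (I.map (algebraMap R S)) (algebraMap R S) Ideal.le_comap_map))
    {M : Type u} [AddCommGroup M] [Module R M] {n : ℕ} (y : S ⊗[R] M)
    (hy : ∀ a ∈ I ^ n, a • y = 0) :
    ∃ m : M, (∀ a ∈ I ^ n, a • m = 0) ∧ (1 : S) ⊗ₜ[R] m = y := by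
  classical
  obtain ⟨k, g, hg⟩ := Submodule.fg_iff_exists_fin_generating_family.1 (hI.pow (n := n))
  let φ : M →ₗ[R] (Fin k → M) := LinearMap.pi fun i => g i • LinearMap.id
  have hex : Function.Exact ((LinearMap.ker φ).subtype.lTensor S) (φ.lTensor S) :=
    Module.Flat.lTensor_exact S (LinearMap.exact_subtype_ker_map φ)
  have hy0 : φ.lTensor S y = 0 := by
    apply (TensorProduct.piRight R R S fun _ : Fin k => M).injective
    have : ∀ (z : S ⊗[R] M) (i : Fin k),
        TensorProduct.piRight R R S (fun _ : Fin k => M) (φ.lTensor S z) i = g i • z := by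
      intro z i
      induction z using TensorProduct.induction_on with
      | zero => simp
      | add a b ha hb => simp only [map_add, Pi.add_apply, ha, hb, smul_add]
      | tmul s m => simp [φ, TensorProduct.tmul_smul]
    rw [map_zero]
    funext i
    rw [this, hy _ (hg ▸ Submodule.subset_span ⟨i, rfl⟩)]
    rfl
  obtain ⟨w, hw⟩ := (hex y).1 hy0
  have hkill : ∀ a ∈ I ^ n, ∀ m : LinearMap.ker φ, a • m = 0 := by
    intro a ha m
    rw [← hg] at ha
    induction ha using Submodule.span_induction with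
    | mem x hx =>
      obtain ⟨i, rfl⟩ := hx
      exact Subtype.ext (congrFun (LinearMap.mem_ker.1 m.2) i)
    | zero => exact zero_smul _ _
    | add x y _ _ hx hy => rw [add_smul, hx, hy, add_zero]
    | smul c x _ hx => rw [smul_eq_mul, mul_smul, hx, smul_zero]
  obtain ⟨m, rfl⟩ := (bijective_mk_of_pow_killed hq n _ hkill).2 w
  refine ⟨m, fun a ha => congrArg Subtype.val (hkill a ha m), ?_⟩
  simpa using hw

lemma exists_pow_le_span_pow {t : ℕ} (f : Fin t → R) (hI : Ideal.span (Set.range f) = I) (N : ℕ) :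
    ∃ K : ℕ, I ^ K ≤ Ideal.span (Set.range fun i => f i ^ N) := by
  refine Ideal.exists_pow_le_of_le_radical_of_fg ?_ (hI ▸ Submodule.fg_span (Set.finite_range f))
  rw [← hI, Ideal.span_le]
  rintro _ ⟨i, rfl⟩
  exact ⟨N, Ideal.subset_span ⟨i, rfl⟩⟩

omit [Module.Flat R S] in
lemma smul_eq_zero_of_span {t : ℕ} {f : Fin t → R} {M : Type u} [AddCommGroup M] [Module R M]
    {m : M} (h : ∀ i, f i • m = 0) {a : R} (ha : a ∈ Ideal.span (Set.range f)) : a • m = 0 := by
  induction ha using Submodule.span_induction with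
  | mem x hx => obtain ⟨i, rfl⟩ := hx; exact h i
  | zero => exact zero_smul _ _
  | add x y _ _ hx hy => rw [add_smul, hx, hy, add_zero]
  | smul c x _ hx => rw [smul_eq_mul, mul_smul, hx, smul_zero]

/-- An element killed in both corners is zero. -/
theorem eq_zero_of_tmul {t : ℕ} (f : Fin t → R) (hI : Ideal.span (Set.range f) = I)
    (hq : Function.Bijective
      (Ideal.quotientMap (I.map (algebraMap R S)) (algebraMap R S) Ideal.le_comap_map))
    {M : Type u} [AddCommGroup M] [Module R M] (N : ℕ) {m : M} (h1 : (1 : S) ⊗ₜ[R] m = 0)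
    (h2 : ∀ i, f i ^ N • m = 0) : m = 0 := by
  obtain ⟨K, hK⟩ := exists_pow_le_span_pow f hI N
  have hb := bijective_mk_of_pow_killed hq K (Submodule.span R {m}) fun a ha x => by
    obtain ⟨r, hr⟩ := Submodule.mem_span_singleton.1 x.2
    refine Subtype.ext ?_
    rw [Submodule.coe_smul, ← hr, smul_comm, smul_eq_zero_of_span h2 (hK ha), smul_zero]
    rfl
  have hinj : Function.Injective ((Submodule.span R {m}).subtype.lTensor S) :=
    Module.Flat.lTensor_preserves_injective_linearMap _ Subtype.val_injective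
  have h3 : TensorProduct.mk R S (Submodule.span R {m}) 1 ⟨m, Submodule.mem_span_singleton_self m⟩ = 0 :=
    hinj (by simpa using h1)
  exact congrArg Subtype.val (hb.1 (h3.trans (map_zero _).symm))

/-- Gluing an element from `S ⊗ M` and exact cocycle data on the punctured spectrum. -/
theorem exists_glue {t : ℕ} (f : Fin t → R) (hI : Ideal.span (Set.range f) = I)
    (hq : Function.Bijective
      (Ideal.quotientMap (I.map (algebraMap R S)) (algebraMap R S) Ideal.le_comap_map))
    {M : Type u} [AddCommGroup M] [Module R M] (N : ℕ) (m : Fin t → M) (x : S ⊗[R] M)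
    (hx : ∀ i, f i ^ N • x = (1 : S) ⊗ₜ[R] m i)
    (hc : ∀ i j, f j ^ N • m i = f i ^ N • m j) :
    ∃ μ : M, (1 : S) ⊗ₜ[R] μ = x ∧ ∀ i, ∃ e : ℕ, f i ^ e • (f i ^ N • μ - m i) = 0 := by
  classical
  obtain ⟨K, hK⟩ := exists_pow_le_span_pow f hI N
  let δ : (Fin t → R) →ₗ[R] M × R :=
    LinearMap.prod (Fintype.linearCombination R m) (-Fintype.linearCombination R fun i => f i ^ N)
  let D := LinearMap.range δ
  let ι : M →ₗ[R] (M × R) ⧸ D := D.mkQ ∘ₗ LinearMap.inl R M R
  let J : Ideal R := Ideal.span (Set.range fun i => f i ^ N)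
  let π : (M × R) ⧸ D →ₗ[R] R ⧸ J := D.liftQ (J.mkQ ∘ₗ LinearMap.snd R M R) (by
    rintro _ ⟨c, rfl⟩
    refine (Submodule.Quotient.mk_eq_zero _).2 (neg_mem ?_)
    rw [Fintype.linearCombination_apply]
    exact Ideal.sum_mem _ fun i _ => Ideal.mul_mem_left _ _ (Ideal.subset_span ⟨i, rfl⟩))
  have hι : Function.Injective ι := by
    rw [injective_iff_map_eq_zero]
    intro y hy
    obtain ⟨c, hc'⟩ := (Submodule.Quotient.mk_eq_zero D).1 hy
    have h1 : ∑ i, c i • m i = y := by
      simpa [δ, Fintype.linearCombination_apply] using congrArg Prod.fst hc'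
    have h2 : ∑ i, c i * f i ^ N = 0 := by
      simpa [δ, Fintype.linearCombination_apply] using congrArg Prod.snd hc'
    refine eq_zero_of_tmul f hI hq N ?_ fun j => ?_
    · rw [← h1, TensorProduct.tmul_sum]
      simp only [TensorProduct.tmul_smul, ← hx, ← mul_smul, ← Finset.sum_smul]
      rw [h2, zero_smul]
    · rw [← h1, Finset.smul_sum]
      rw [Finset.sum_congr rfl fun i _ => show f j ^ N • c i • m i = (c i * f i ^ N) • m j by
        rw [smul_comm, hc, mul_smul], ← Finset.sum_smul, h2, zero_smul]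
  have hιx : ∀ i, ι (m i) = f i ^ N • D.mkQ (0, 1) := fun i => by
    rw [← map_smul, ← sub_eq_zero]
    simp only [ι, LinearMap.comp_apply, ← map_sub]
    refine (Submodule.Quotient.mk_eq_zero D).2 ⟨Pi.single i 1, ?_⟩
    simp [δ]
  obtain ⟨τ, hτ, hτ'⟩ := exists_of_torsion (n := K) (hI ▸ Submodule.fg_span (Set.finite_range f)) hq
    ((1 : S) ⊗ₜ[R] D.mkQ (0, 1) - ι.lTensor S x) fun a ha => by
      refine smul_eq_zero_of_span (M := S ⊗[R] ((M × R) ⧸ D)) (f := fun i => f i ^ N)
        (m := (1 : S) ⊗ₜ[R] D.mkQ (0, 1) - ι.lTensor S x) (fun i => ?_) (hK ha)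
      rw [smul_sub, ← map_smul, hx, LinearMap.lTensor_tmul, hιx, TensorProduct.tmul_smul, sub_self]
  have hJ : ∀ m : R ⧸ J, ∃ n : ℕ, ∀ a ∈ I ^ n, a • m = 0 := fun q => ⟨K, fun a ha => by
    obtain ⟨q, rfl⟩ := Ideal.Quotient.mk_surjective q
    rw [Algebra.smul_def, Ideal.Quotient.algebraMap_eq, ← map_mul]
    exact Ideal.Quotient.eq_zero_iff_mem.2 (Ideal.mul_mem_right _ _ (hK ha))⟩
  have hπι : π ∘ₗ ι = 0 := LinearMap.ext fun y => by simp [π, ι]
  have hπτ : π τ = π (D.mkQ (0, 1)) := (bijective_mk_of_torsion hq _ hJ).1 (by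
    have := congrArg (π.lTensor S) hτ'
    rw [map_sub, ← LinearMap.lTensor_comp_apply, hπι, LinearMap.lTensor_zero, LinearMap.zero_apply,
      sub_zero, LinearMap.lTensor_tmul, LinearMap.lTensor_tmul] at this
    exact this)
  obtain ⟨μ, hμ⟩ : ∃ μ, ι μ = D.mkQ (0, 1) - τ := by
    obtain ⟨⟨a, b⟩, hab⟩ := Submodule.mkQ_surjective D (D.mkQ (0, 1) - τ)
    have hb : b ∈ J := (Submodule.Quotient.mk_eq_zero J).1 (by
      have := congrArg π hab
      rw [map_sub, hπτ, sub_self] at this
      exact this)
    obtain ⟨c, hc'⟩ := (Submodule.mem_span_range_iff_exists_fun R).1 hb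
    refine ⟨a + ∑ i, c i • m i, ?_⟩
    rw [← hab]
    refine (Submodule.Quotient.eq D).2 ⟨c, ?_⟩
    simp only [smul_eq_mul] at hc'
    simp [δ, Fintype.linearCombination_apply, Prod.ext_iff, hc']
  refine ⟨μ, ?_, fun i => ⟨K, hι ?_⟩⟩
  · apply Module.Flat.lTensor_preserves_injective_linearMap (M := S) ι hι
    rw [LinearMap.lTensor_tmul, hμ, TensorProduct.tmul_sub, hτ']
    abel
  · rw [map_smul, map_sub, map_smul, hμ, hιx, smul_sub (f i ^ N), sub_sub_cancel_left, map_zero,
      smul_neg, smul_comm, hτ (f i ^ K) (Ideal.pow_mem_pow (hI ▸ Ideal.subset_span ⟨i, rfl⟩) K),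
      smul_zero, neg_zero]

end Groth.Agent.TorsionEquivLib
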